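import Mathlib.Algebra.Homology.HomologySequence
import Mathlib.Algebra.Homology.Refinements
import Mathlib.Algebra.Homology.HomologicalComplexAbelian
import Mathlib.CategoryTheory.Abelian.Refinements
import Mathlib.CategoryTheory.Preadditive.Injective.Basic
import Mathlib.Algebra.Homology.Embedding.CochainComplex
import Groth.Prelude.Def_CE

/-!
# Cartan–Eilenberg resolutions by iterated embeddings

A bounded below complex embeds into one of the form `IB^p ⊕ IH^p ⊕ IB^{p+1}` so that terms, cycles and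
cohomology all embed into injectives; iterating on the cokernel gives a Cartan–Eilenberg resolution.
-/

set_option autoImplicit false
set_option linter.style.haveILetI false
set_option backward.isDefEq.respectTransparency false
set_option backward.isDefEq.respectTransparency.types false

universe v u

open CategoryTheory CategoryTheory.Limits HomologicalComplex

noncomputable section

namespace Groth.Agent.CERes7

variable {A : Type u} [Category.{v} A] [Abelian A] [EnoughInjectives A]

/-- An injective object containing `X`, zero if `X` is. -/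
theorem exists_hull (X : A) :
    ∃ (J : A) (f : X ⟶ J), Injective J ∧ Mono f ∧ (IsZero X → IsZero J) := by
  by_cases h : IsZero X
  · exact ⟨X, 𝟙 X, ⟨fun {Y Z} g f _ => ⟨0, h.eq_of_tgt _ _⟩⟩, inferInstance, fun h => h⟩
  · exact ⟨Injective.under X, Injective.ι X, inferInstance, inferInstance, fun h' => absurd h' h⟩

/-- The chosen injective. -/
def hull (X : A) : A := (exists_hull X).choose

/-- The chosen embedding. -/
def hullι (X : A) : X ⟶ hull X := (exists_hull X).choose_spec.choose

instance injective_hull (X : A) : Injective (hull X) := (exists_hull X).choose_spec.choose_spec.1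

instance mono_hullι (X : A) : Mono (hullι X) := (exists_hull X).choose_spec.choose_spec.2.1

theorem isZero_hull {X : A} (h : IsZero X) : IsZero (hull X) :=
  (exists_hull X).choose_spec.choose_spec.2.2 h

variable (K : CochainComplex A ℤ)

/-- The injective for the boundaries. -/
abbrev IB (p : ℤ) : A := hull (Limits.image (K.d (p - 1) p))

/-- The injective for the cohomology. -/
abbrev IH (p : ℤ) : A := hull (K.homology p)

instance (p : ℤ) : Injective (IB K p) := injective_hull _
instance (p : ℤ) : Injective (IH K p) := injective_hull _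

/-- Extension of the embedding of the boundaries. -/
def β (p : ℤ) : K.X p ⟶ IB K p := Injective.factorThru (hullι _) (Limits.image.ι (K.d (p - 1) p))

/-- Extension of the embedding of the cohomology. -/
def η (p : ℤ) : K.X p ⟶ IH K p := Injective.factorThru (K.homologyπ p ≫ hullι _) (K.iCycles p)

@[reassoc]
theorem image_β (p : ℤ) : Limits.image.ι (K.d (p - 1) p) ≫ β K p = hullι _ :=
  Injective.comp_factorThru _ _

@[reassoc]
theorem iCycles_η (p : ℤ) : K.iCycles p ≫ η K p = K.homologyπ p ≫ hullι _ :=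
  Injective.comp_factorThru _ _

@[reassoc]
theorem d_η (p p' : ℤ) : K.d p p' ≫ η K p' = 0 := by
  rw [← K.toCycles_i p p', Category.assoc, iCycles_η, toCycles_comp_homologyπ_assoc, zero_comp]

/-- The split complex receiving `K`. -/
abbrev J : CochainComplex A ℤ :=
  CochainComplex.of (fun p => IB K p ⊞ (IH K p ⊞ IB K (p + 1)))
    (fun _ => biprod.snd ≫ biprod.snd ≫ biprod.inl)
    (fun _ => by simp)

theorem J_d (p : ℤ) :
    (J K).d p (p + 1) = biprod.snd ≫ biprod.snd ≫ biprod.inl :=
  by simp [J, CochainComplex.of, CochainComplex.of.d]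

/-- The embedding. -/
def ε : K ⟶ J K where
  f p := biprod.lift (β K p) (biprod.lift (η K p) (K.d p (p + 1) ≫ β K (p + 1)))
  comm' p p' h := by
    obtain rfl : p + 1 = p' := h
    rw [J_d]
    refine biprod.hom_ext _ _ ?_ (biprod.hom_ext _ _ ?_ ?_)
    · dsimp; simp
    · dsimp; simp [d_η]
    · dsimp; simp

theorem ε_f (p : ℤ) :
    (ε K).f p = biprod.lift (β K p) (biprod.lift (η K p) (K.d p (p + 1) ≫ β K (p + 1))) := rfl

instance mono_ε_f (p : ℤ) : Mono ((ε K).f p) := by
  refine Preadditive.mono_of_cancel_zero _ fun {T} g hg => ?_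
  rw [ε_f] at hg
  have h1 : g ≫ β K p = 0 := by simpa using congrArg (· ≫ biprod.fst) hg
  have h2 : g ≫ η K p = 0 := by simpa using congrArg (· ≫ biprod.snd ≫ biprod.fst) hg
  have h3 : g ≫ K.d p (p + 1) ≫ β K (p + 1) = 0 := by
    simpa using congrArg (· ≫ biprod.snd ≫ biprod.snd) hg
  have h4 : g ≫ K.d p (p + 1) = 0 := by
    obtain ⟨i, hi⟩ : ∃ i, p + 1 - 1 = i := ⟨_, rfl⟩
    obtain rfl : i = p := by omega
    have hd : K.d i (i + 1) = eqToHom (congrArg K.X hi.symm) ≫ K.d (i + 1 - 1) (i + 1) := by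
      rw [← HomologicalComplex.XIsoOfEq_hom_comp_d K hi]
      simp [HomologicalComplex.XIsoOfEq]
    rw [hd, ← Limits.image.fac (K.d (i + 1 - 1) (i + 1))] at h3
    simp only [Category.assoc, image_β] at h3
    have h5 : g ≫ eqToHom (congrArg K.X hi.symm) ≫ factorThruImage (K.d (i + 1 - 1) (i + 1)) = 0 := by
      rw [← cancel_mono (hullι (Limits.image (K.d (i + 1 - 1) (i + 1)))), zero_comp]
      simpa using h3
    rw [hd, ← Limits.image.fac (K.d (i + 1 - 1) (i + 1))]
    exact (congrArg (g ≫ ·) (Category.assoc _ _ _).symm).trans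
      ((Category.assoc _ _ _).symm.trans ((congrArg (· ≫ _) h5).trans zero_comp))
  obtain ⟨z, rfl⟩ : ∃ z : T ⟶ K.cycles p, z ≫ K.iCycles p = g :=
    ⟨K.liftCycles g (p + 1) (CochainComplex.next _ p) h4, liftCycles_i _ _ _ _ _⟩
  rw [Category.assoc, iCycles_η, ← Category.assoc] at h2
  have h5 : z ≫ K.homologyπ p = 0 := by
    rw [← cancel_mono (hullι (K.homology p)), zero_comp]; exact h2
  obtain ⟨T', π, hπ, y, hy⟩ :=
    (K.comp_homologyπ_eq_zero_iff_up_to_refinements (p - 1) p (CochainComplex.prev _ p) z).1 h5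
  rw [← cancel_epi π, comp_zero]
  have h6 : π ≫ z ≫ K.iCycles p = (y ≫ factorThruImage (K.d (p - 1) p)) ≫ Limits.image.ι _ := by
    rw [Category.assoc, Limits.image.fac, ← Category.assoc, hy, Category.assoc, toCycles_i]
  rw [h6] 
  have h7 : (y ≫ factorThruImage (K.d (p - 1) p)) ≫ hullι _ = 0 := by
    rw [← image_β, ← Category.assoc, ← h6]
    simp only [Category.assoc] at h1 ⊢
    rw [h1, comp_zero]
  rw [show y ≫ factorThruImage (K.d (p - 1) p) = 0 from by
    rw [← cancel_mono (hullι (Limits.image (K.d (p - 1) p))), zero_comp]; exact h7, zero_comp]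

instance injective_J (p : ℤ) : Injective ((J K).X p) :=
  inferInstanceAs (Injective (IB K p ⊞ (IH K p ⊞ IB K (p + 1))))

/-- Cycles of the split complex. -/
def cyclesIso (p : ℤ) : (J K).cycles p ≅ IB K p ⊞ IH K p where
  hom := (J K).iCycles p ≫ biprod.lift biprod.fst (biprod.snd ≫ biprod.fst)
  inv := (J K).liftCycles (biprod.lift biprod.fst (biprod.lift biprod.snd 0) :
      IB K p ⊞ IH K p ⟶ IB K p ⊞ (IH K p ⊞ IB K (p + 1))) (p + 1) (CochainComplex.next _ p) (by
    rw [J_d]
    simp)
  hom_inv_id := by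
    rw [← cancel_mono ((J K).iCycles p), Category.assoc, liftCycles_i, Category.id_comp]
    have h := (J K).iCycles_d p (p + 1)
    rw [J_d] at h
    have h' : (J K).iCycles p ≫ biprod.snd ≫ biprod.snd = 0 := by
      have := congrArg (· ≫ (biprod.fst : IB K (p + 1) ⊞ (IH K (p + 1) ⊞ IB K (p + 1 + 1)) ⟶ _)) h
      simp only [Category.assoc, biprod.inl_fst, Category.comp_id, zero_comp] at this
      exact this
    refine biprod.hom_ext _ _ ?_ (biprod.hom_ext _ _ ?_ ?_)
    · simp
    · simp
    · simpa using h'.symm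
  inv_hom_id := by
    refine biprod.hom_ext _ _ ?_ ?_
    · simp
    · simp

instance injective_cycles (p : ℤ) : Injective ((J K).cycles p) :=
  Injective.of_iso (cyclesIso K p).symm inferInstance

/-- Cohomology of the split complex. -/
theorem exists_homologyIso (p : ℤ) :
    ∃ e : (J K).homology p ≅ IH K p,
      (J K).homologyπ p ≫ e.hom = (J K).iCycles p ≫ biprod.snd ≫ biprod.fst := by
  obtain ⟨i, rfl⟩ : ∃ i, p = i + 1 := ⟨p - 1, by omega⟩
  have hprev : (ComplexShape.up ℤ).prev (i + 1) = i := by simp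
  let r : (J K).cycles (i + 1) ⟶ IH K (i + 1) := (J K).iCycles (i + 1) ≫ biprod.snd ≫ biprod.fst
  have hr : (J K).toCycles i (i + 1) ≫ r = 0 := by
    simp only [r, toCycles_i_assoc, J_d]
    simp
  let ρ := ((J K).homologyIsCokernel i (i + 1) hprev).desc (CokernelCofork.ofπ r hr)
  have hρ : (J K).homologyπ (i + 1) ≫ ρ = r :=
    ((J K).homologyIsCokernel i (i + 1) hprev).fac (CokernelCofork.ofπ r hr) WalkingParallelPair.one
  let w : IH K (i + 1) ⟶ IB K (i + 1) ⊞ (IH K (i + 1) ⊞ IB K (i + 1 + 1)) := biprod.inl ≫ biprod.inr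
  let s := (J K).liftCycles w (i + 1 + 1) (CochainComplex.next _ (i + 1)) (by rw [J_d]; simp [w])
  refine ⟨⟨ρ, s ≫ (J K).homologyπ (i + 1), ?_, ?_⟩, hρ⟩
  · rw [← cancel_epi ((J K).homologyπ (i + 1)), reassoc_of% hρ, Category.comp_id]
    let u : (J K).cycles (i + 1) ⟶ (J K).X i :=
      (J K).iCycles (i + 1) ≫ (biprod.fst ≫ biprod.inr ≫ biprod.inr :
        IB K (i + 1) ⊞ (IH K (i + 1) ⊞ IB K (i + 1 + 1)) ⟶ IB K i ⊞ (IH K i ⊞ IB K (i + 1)))
    have key : r ≫ s + u ≫ (J K).toCycles i (i + 1) = 𝟙 _ := by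
      rw [← cancel_mono ((J K).iCycles (i + 1))]
      have h := (J K).iCycles_d (i + 1) (i + 1 + 1)
      rw [J_d] at h
      have h' : (J K).iCycles (i + 1) ≫ biprod.snd ≫ biprod.snd = 0 := by
        have := congrArg (· ≫ (biprod.fst : IB K (i + 1 + 1) ⊞ (IH K (i + 1 + 1) ⊞ IB K (i + 1 + 1 + 1)) ⟶ _)) h
        simp only [Category.assoc, biprod.inl_fst, Category.comp_id, zero_comp] at this
        exact this
      simp only [Preadditive.add_comp, Category.assoc, s, liftCycles_i, toCycles_i, u, r, w, J_d,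
        Category.id_comp]
      refine biprod.hom_ext _ _ ?_ (biprod.hom_ext _ _ ?_ ?_)
      · simp
      · simp
      · simpa using h'.symm
    calc r ≫ s ≫ (J K).homologyπ (i + 1)
        = (r ≫ s + u ≫ (J K).toCycles i (i + 1)) ≫ (J K).homologyπ (i + 1) := by simp
      _ = _ := by rw [key, Category.id_comp]
  · rw [Category.assoc, hρ]
    simp [s, r, w]

instance injective_homology (p : ℤ) : Injective ((J K).homology p) :=
  Injective.of_iso (exists_homologyIso K p).choose.symm inferInstance

instance mono_homologyMap (p : ℤ) : Mono (homologyMap (ε K) p) := by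
  obtain ⟨e, he⟩ := exists_homologyIso K p
  have h : homologyMap (ε K) p ≫ e.hom = hullι (K.homology p) := by
    rw [← cancel_epi (K.homologyπ p), homologyπ_naturality_assoc, he, cyclesMap_i_assoc, ε_f, ← iCycles_η]
    simp
  have : Mono (homologyMap (ε K) p ≫ e.hom) := h ▸ inferInstance
  exact mono_of_mono (homologyMap (ε K) p) e.hom

theorem isZero_J (n : ℤ) [K.IsStrictlyGE n] (p : ℤ) (hp : p < n) : IsZero ((J K).X p) := by
  have hB : ∀ q : ℤ, q ≤ n → IsZero (IB K q) := fun q hq => by
    refine isZero_hull (IsZero.of_mono_eq_zero (Limits.image.ι (K.d (q - 1) q)) ?_)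
    rw [← cancel_epi (factorThruImage (K.d (q - 1) q)), Limits.image.fac, comp_zero]
    exact (K.isZero_of_isStrictlyGE n (q - 1) (by omega)).eq_of_src _ _
  have hH : IsZero (IH K p) := isZero_hull ((ShortComplex.exact_iff_isZero_homology (K.sc p)).1
    (ShortComplex.exact_of_isZero_X₂ (K.sc p) (K.isZero_of_isStrictlyGE n p hp)))
  exact biprod_isZero_iff _ _ |>.2 ⟨hB p hp.le, (biprod_isZero_iff _ _).2 ⟨hH, hB (p + 1) (by omega)⟩⟩

/-- The short exact sequence of the embedding. -/
def SS : ShortComplex (CochainComplex A ℤ) :=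
  ShortComplex.mk (ε K) (cokernel.π (ε K)) (cokernel.condition _)

theorem shortExact_SS : (SS K).ShortExact :=
  { exact := ShortComplex.exact_of_g_is_cokernel _ (cokernelIsCokernel _)
    mono_f := HomologicalComplex.mono_of_mono_f (ε K) inferInstance
    epi_g := inferInstanceAs (Epi (cokernel.π (ε K))) }

theorem shortExact_eval (p : ℤ) :
    ((SS K).map (HomologicalComplex.eval A (ComplexShape.up ℤ) p)).ShortExact :=
  (shortExact_SS K).map_of_exact _

instance epi_homologyMap (p : ℤ) : Epi (homologyMap (cokernel.π (ε K)) p) := by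
  have hδ : (shortExact_SS K).δ p (p + 1) rfl = 0 := by
    rw [← cancel_mono (homologyMap (ε K) (p + 1)), zero_comp]
    exact (shortExact_SS K).δ_comp p (p + 1) rfl
  exact ((shortExact_SS K).homology_exact₃ p (p + 1) rfl).epi_f hδ

theorem shortExact_homology (p : ℤ) :
    ((SS K).map (HomologicalComplex.homologyFunctor A (ComplexShape.up ℤ) p)).ShortExact :=
  { exact := (shortExact_SS K).homology_exact₂ p
    mono_f := inferInstanceAs (Mono (homologyMap (ε K) p))
    epi_g := inferInstanceAs (Epi (homologyMap (cokernel.π (ε K)) p)) }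

instance epi_cyclesMap (p : ℤ) : Epi (cyclesMap (cokernel.π (ε K)) p) := by
  let g := cokernel.π (ε K)
  haveI : Epi (g.f (p - 1)) := (shortExact_eval K (p - 1)).epi_g
  rw [epi_iff_surjective_up_to_refinements]
  intro T z
  obtain ⟨T₁, π₁, hπ₁, h, hh⟩ := surjective_up_to_refinements_of_epi (homologyMap g p) (z ≫ (cokernel (ε K)).homologyπ p)
  obtain ⟨T₂, π₂, hπ₂, y, hy⟩ := surjective_up_to_refinements_of_epi ((J K).homologyπ p) h
  have h0 : ((π₂ ≫ π₁) ≫ z - y ≫ cyclesMap g p) ≫ (cokernel (ε K)).homologyπ p = 0 := by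
    rw [Preadditive.sub_comp, Category.assoc, Category.assoc, Category.assoc, hh, reassoc_of% hy,
      homologyπ_naturality, sub_self]
  obtain ⟨T₃, π₃, hπ₃, c, hc⟩ :=
    ((cokernel (ε K)).comp_homologyπ_eq_zero_iff_up_to_refinements (p - 1) p (CochainComplex.prev _ p) _).1 h0
  obtain ⟨T₄, π₄, hπ₄, x, hx⟩ := surjective_up_to_refinements_of_epi (g.f (p - 1)) c
  refine ⟨T₄, π₄ ≫ π₃ ≫ π₂ ≫ π₁, inferInstance, π₄ ≫ π₃ ≫ y + x ≫ (J K).toCycles (p - 1) p, ?_⟩
  have hn : (J K).toCycles (p - 1) p ≫ cyclesMap g p = g.f (p - 1) ≫ (cokernel (ε K)).toCycles (p - 1) p := by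
    rw [← cancel_mono ((cokernel (ε K)).iCycles p)]
    simp
  rw [Preadditive.add_comp]
  simp only [Category.assoc]
  rw [hn, ← reassoc_of% hx, ← hc]
  simp only [Preadditive.sub_comp, Preadditive.comp_sub, Category.assoc, g]
  abel

theorem shortExact_cycles (p : ℤ) :
    ((SS K).map (HomologicalComplex.cyclesFunctor A (ComplexShape.up ℤ) p)).ShortExact :=
  { exact := by
      haveI := (shortExact_SS K).mono_f
      exact HomologicalComplex.cycles_left_exact (SS K) (shortExact_SS K).exact p
    mono_f := by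
      haveI : Mono (cyclesMap (ε K) p ≫ (J K).iCycles p) := by
        rw [cyclesMap_i]; infer_instance
      exact mono_of_mono (cyclesMap (ε K) p) ((J K).iCycles p)
    epi_g := inferInstanceAs (Epi (cyclesMap (cokernel.π (ε K)) p)) }

instance additive_cycles (p : ℤ) : (HomologicalComplex.cyclesFunctor A (ComplexShape.up ℤ) p).Additive where
  map_add {X Y f g} := by
    rw [← cancel_mono (Y.iCycles p)]
    show cyclesMap (f + g) p ≫ Y.iCycles p = (cyclesMap f p + cyclesMap g p) ≫ Y.iCycles p
    simp [Preadditive.add_comp, Preadditive.comp_add]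

/-- The iterated cokernels. -/
def C : ℕ → CochainComplex A ℤ
  | 0 => K
  | m + 1 => cokernel (ε (C m))

/-- The rows of the resolution. -/
def row : ℤ → CochainComplex A ℤ
  | Int.ofNat m => J (C K m)
  | Int.negSucc _ => HomologicalComplex.zero

/-- The vertical differential. -/
def rowd : ∀ q : ℤ, row K q ⟶ row K (q + 1)
  | Int.ofNat m => cokernel.π (ε (C K m)) ≫ ε (C K (m + 1))
  | Int.negSucc _ => 0

theorem rowd_comp : ∀ q : ℤ, rowd K q ≫ rowd K (q + 1) = 0
  | Int.ofNat m => by
    show (cokernel.π (ε (C K m)) ≫ ε (C K (m + 1))) ≫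
      cokernel.π (ε (C K (m + 1))) ≫ ε (C K (m + 1 + 1)) = 0
    rw [Category.assoc, cokernel.condition_assoc, zero_comp, comp_zero]
  | Int.negSucc _ => zero_comp

/-- The double complex. -/
def I : CochainComplex (CochainComplex A ℤ) ℤ := CochainComplex.of (row K) (rowd K) (rowd_comp K)

theorem column (G : CochainComplex A ℤ ⥤ A) [G.Additive]
    (hG : ∀ L : CochainComplex A ℤ, ((SS L).map G).ShortExact)
    (hinj : ∀ L : CochainComplex A ℤ, Injective (G.obj (J L))) :
    CE.IsInjResolutionVia ((G.mapHomologicalComplex (ComplexShape.up ℤ)).obj (I K)) (G.obj K) (G.map (ε K)) := by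
  haveI := fun L => (hG L).mono_f
  haveI := fun L => (hG L).epi_g
  let M := (G.mapHomologicalComplex (ComplexShape.up ℤ)).obj (I K)
  have hd : ∀ m : ℕ, M.d (Int.ofNat m) (Int.ofNat (m + 1)) =
      G.map (cokernel.π (ε (C K m))) ≫ G.map (ε (C K (m + 1))) := fun m => by
    show G.map ((I K).d (Int.ofNat m) (Int.ofNat m + 1)) = _
    rw [show (I K).d (Int.ofNat m) (Int.ofNat m + 1) = rowd K (Int.ofNat m) by simp [I, CochainComplex.of, CochainComplex.of.d]]
    exact G.map_comp _ _
  have hc : ∀ m : ℕ, G.map (ε (C K m)) ≫ M.d (Int.ofNat m) (Int.ofNat (m + 1)) = 0 := fun m => by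
    rw [hd]
    erw [← Category.assoc, ← G.map_comp, cokernel.condition, G.map_zero, zero_comp]
  have key : ∀ m : ℕ, (ShortComplex.mk (G.map (ε (C K m))) (M.d (Int.ofNat m) (Int.ofNat (m + 1))) (hc m)).Exact :=
    fun m => by
    let φ : (SS (C K m)).map G ⟶ ShortComplex.mk (G.map (ε (C K m))) (M.d (Int.ofNat m) (Int.ofNat (m + 1))) (hc m) :=
      { τ₁ := 𝟙 _
        τ₂ := 𝟙 _
        τ₃ := G.map (ε (C K (m + 1)))
        comm₁₂ := (Category.id_comp _).trans (Category.comp_id _).symm
        comm₂₃ := (Category.id_comp _).trans (hd m) }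
    haveI : Mono φ.τ₃ := (hG (C K (m + 1))).mono_f
    haveI : IsIso φ.τ₂ := IsIso.id _
    haveI : Epi φ.τ₁ := inferInstanceAs (Epi (𝟙 _))
    exact (ShortComplex.exact_iff_of_epi_of_isIso_of_mono φ).1 (hG (C K m)).exact
  have hneg : ∀ m : ℕ, IsZero (M.X (Int.negSucc m)) := fun m =>
    G.map_isZero HomologicalComplex.isZero_zero
  refine ⟨hc 0, (CochainComplex.isStrictlyGE_iff _ _).2 fun q hq => ?_, fun q => ?_, fun q hq => ?_,
    (hG K).mono_f, key 0⟩
  · obtain ⟨m, rfl⟩ := Int.eq_negSucc_of_lt_zero hq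
    exact hneg m
  · match q with
    | Int.ofNat m => exact hinj _
    | Int.negSucc m => exact ⟨fun g f _ => ⟨0, (hneg m).eq_of_tgt _ _⟩⟩
  · match q, hq with
    | Int.ofNat 0, hq => exact absurd rfl hq
    | Int.negSucc m, _ => exact ShortComplex.exact_of_isZero_X₂ _ (hneg m)
    | Int.ofNat (m + 1), _ =>
      rw [HomologicalComplex.exactAt_iff' _ (Int.ofNat m) (Int.ofNat (m + 1)) (Int.ofNat (m + 1 + 1))
        (by simp) (by simp)]
      let ψ : HomologicalComplex.sc' M (Int.ofNat m) (Int.ofNat (m + 1)) (Int.ofNat (m + 1 + 1)) ⟶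
          ShortComplex.mk (G.map (ε (C K (m + 1)))) (M.d (Int.ofNat (m + 1)) (Int.ofNat (m + 1 + 1))) (hc (m + 1)) :=
        { τ₁ := G.map (cokernel.π (ε (C K m)))
          τ₂ := 𝟙 _
          τ₃ := 𝟙 _
          comm₁₂ := (hd m).symm.trans (Category.comp_id _).symm
          comm₂₃ := (Category.id_comp _).trans (Category.comp_id _).symm }
      haveI : Epi ψ.τ₁ := (hG (C K m)).epi_g
      haveI : IsIso ψ.τ₂ := IsIso.id _
      haveI : Mono ψ.τ₃ := inferInstanceAs (Mono (𝟙 _))
      exact (ShortComplex.exact_iff_of_epi_of_isIso_of_mono ψ).2 (key (m + 1))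

theorem isZero_C (n : ℤ) [K.IsStrictlyGE n] : ∀ m : ℕ, (C K m).IsStrictlyGE n
  | 0 => inferInstanceAs (K.IsStrictlyGE n)
  | m + 1 => (CochainComplex.isStrictlyGE_iff _ _).2 fun p hp => by
    haveI := isZero_C n m
    haveI : Epi ((cokernel.π (ε (C K m))).f p) := (shortExact_eval (C K m) p).epi_g
    exact IsZero.of_epi ((cokernel.π (ε (C K m))).f p) (isZero_J (C K m) n p hp)

/-- Existence of Cartan–Eilenberg resolutions. -/
theorem exists_resolution (n : ℤ) [K.IsStrictlyGE n] :
    ∃ (I : CochainComplex (CochainComplex A ℤ) ℤ) (ε : K ⟶ I.X 0) (hε : ε ≫ I.d 0 1 = 0),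
      (∃ i : ℤ, ∀ p q : ℤ, p < i → IsZero ((I.X q).X p)) ∧
      (∀ p : ℤ, CE.IsInjResolutionVia (((HomologicalComplex.eval A (ComplexShape.up ℤ) p).mapHomologicalComplex (ComplexShape.up ℤ)).obj I) (K.X p) (ε.f p)) ∧
      (∀ p : ℤ, CE.IsInjResolutionVia (((HomologicalComplex.cyclesFunctor A (ComplexShape.up ℤ) p).mapHomologicalComplex (ComplexShape.up ℤ)).obj I) (K.cycles p) (HomologicalComplex.cyclesMap ε p)) ∧
      (∀ p : ℤ, CE.IsInjResolutionVia (((HomologicalComplex.homologyFunctor A (ComplexShape.up ℤ) p).mapHomologicalComplex (ComplexShape.up ℤ)).obj I) (K.homology p) (HomologicalComplex.homologyMap ε p)) := by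
  refine ⟨I K, ε K, ?_, ⟨n, fun p q hp => ?_⟩,
    fun p => column K (HomologicalComplex.eval A (ComplexShape.up ℤ) p) (fun L => shortExact_eval L p)
      (fun L => injective_J L p),
    fun p => column K (HomologicalComplex.cyclesFunctor A (ComplexShape.up ℤ) p) (fun L => shortExact_cycles L p)
      (fun L => injective_cycles L p),
    fun p => column K (HomologicalComplex.homologyFunctor A (ComplexShape.up ℤ) p) (fun L => shortExact_homology L p)
      (fun L => injective_homology L p)⟩
  · show ε K ≫ (I K).d (Int.ofNat 0) (Int.ofNat 0 + 1) = 0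
    rw [show (I K).d (Int.ofNat 0) (Int.ofNat 0 + 1) = rowd K (Int.ofNat 0) by simp [I, CochainComplex.of, CochainComplex.of.d]]
    show ε (C K 0) ≫ cokernel.π (ε (C K 0)) ≫ ε (C K 1) = 0
    rw [cokernel.condition_assoc, zero_comp]
  · match q with
    | Int.ofNat m =>
      haveI := isZero_C K n m
      exact isZero_J (C K m) n p hp
    | Int.negSucc m => exact isZero_zero A

end Groth.Agent.CERes7
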